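import Groth.Agent.UHTower.Basic
import Groth.Agent.AWN.Ring

/-!
# Towers of elementary steps

`exists_tower`: universal homeomorphism ⇒ every finite subset lies in a tower.
`univHomeo_of_cover` / `surjective_residue_of_cover`: converse.
-/

set_option autoImplicit false

universe u

open CategoryTheory AlgebraicGeometry
open Groth.Agent.AWN (HomInj)

namespace Groth.Agent.UHTower

variable {A B : Type u} [CommRing A] [CommRing B] [Algebra A B]

/-- The subalgebra generated by the entries of a list. -/
def adj (A : Type u) {B : Type u} [CommRing A] [CommRing B] [Algebra A B] (l : List B) : Subalgebra A B :=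
  Algebra.adjoin A {b | b ∈ l}

theorem adj_mono {l m : List B} (hlm : ∀ b ∈ l, b ∈ m) : adj A l ≤ adj A m :=
  Algebra.adjoin_mono hlm

theorem mem_adj {l : List B} {b : B} (hb : b ∈ l) : b ∈ adj A l := Algebra.subset_adjoin hb

/-- A tower of steps. -/
def IsTower (A : Type u) {B : Type u} [CommRing A] [CommRing B] [Algebra A B] (h : Prop) (l : List B) : Prop :=
  ∀ (i : ℕ) (hi : i < l.length), Step h (adj A (l.take i)) l[i]

theorem isTower_nil (h : Prop) : IsTower A h ([] : List B) := fun i hi => absurd hi (by simp)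

theorem IsTower.append {h : Prop} {l m : List B} (hl : IsTower A h l) (hm : IsTower A h m) :
    IsTower A h (l ++ m) := by
  intro i hi
  by_cases hil : i < l.length
  · rw [List.getElem_append_left hil, List.take_append_of_le_length hil.le]
    exact hl i hil
  · rw [List.getElem_append_right (not_lt.mp hil)]
    refine (hm _ (by simp at hi; omega)).mono (adj_mono fun b hb => ?_)
    rw [List.take_append]
    exact List.mem_append_right _ hb

theorem IsTower.snoc {h : Prop} {l : List B} {b : B} (hl : IsTower A h l) (hb : Step h (adj A l) b) :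
    IsTower A h (l ++ [b]) := by
  intro i hi
  by_cases hil : i < l.length
  · rw [List.getElem_append_left hil, List.take_append_of_le_length hil.le]
    exact hl i hil
  · have : i = l.length := by simp at hi; omega
    subst this
    rw [List.getElem_append_right le_rfl, List.take_append_of_le_length le_rfl, List.take_length]
    simpa using hb

/-- Tower induction. -/
theorem IsTower.adj_le {h : Prop} {l : List B} (hl : IsTower A h l) {S : Subalgebra A B}
    (hS : Closed h S) : adj A l ≤ S := by
  have key : ∀ i (hi : i < l.length), l[i] ∈ S := by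
    intro i
    induction i using Nat.strong_induction_on with
    | _ i ih =>
      intro hi
      refine hS _ ((hl i hi).mono (Algebra.adjoin_le fun b hb => ?_))
      obtain ⟨j, hj, rfl⟩ := List.getElem_of_mem hb
      rw [List.getElem_take]
      exact ih j (by simp at hj; omega) _
  refine Algebra.adjoin_le fun b hb => ?_
  obtain ⟨j, hj, rfl⟩ := List.getElem_of_mem hb
  exact key j hj

/-- Elements reached by towers. -/
def reach (A B : Type u) [CommRing A] [CommRing B] [Algebra A B] (h : Prop) : Subalgebra A B where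
  carrier := {x | ∃ l, IsTower A h l ∧ x ∈ adj A l}
  mul_mem' := by
    rintro a b ⟨l, hl, ha⟩ ⟨m, hm, hb⟩
    exact ⟨l ++ m, hl.append hm, mul_mem (adj_mono (fun _ => List.mem_append_left m) ha)
      (adj_mono (fun _ => List.mem_append_right l) hb)⟩
  add_mem' := by
    rintro a b ⟨l, hl, ha⟩ ⟨m, hm, hb⟩
    exact ⟨l ++ m, hl.append hm, add_mem (adj_mono (fun _ => List.mem_append_left m) ha)
      (adj_mono (fun _ => List.mem_append_right l) hb)⟩
  algebraMap_mem' a := ⟨[], isTower_nil h, Subalgebra.algebraMap_mem _ a⟩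

theorem closed_reach (h : Prop) : Closed h (reach A B h) := by
  intro b hb
  obtain ⟨l, hl, hstep⟩ : ∃ l, IsTower A h l ∧ Step h (adj A l) b := by
    rcases hb with ⟨⟨l, hl, h2⟩, ⟨m, hm, h3⟩⟩ | ⟨hh, p, hp, ⟨l, hl, h1⟩, ⟨m, hm, h2⟩⟩
    · exact ⟨l ++ m, hl.append hm, .inl ⟨adj_mono (fun _ => List.mem_append_left m) h2,
        adj_mono (fun _ => List.mem_append_right l) h3⟩⟩
    · exact ⟨l ++ m, hl.append hm, .inr ⟨hh, p, hp, adj_mono (fun _ => List.mem_append_left m) h1,
        adj_mono (fun _ => List.mem_append_right l) h2⟩⟩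
  exact ⟨l ++ [b], hl.snoc hstep, mem_adj (by simp)⟩

theorem exists_tower {h : Prop} [Algebra.IsIntegral A B] (hinj : HomInj (algebraMap A B))
    (hres : Res h A B) (E : Finset B) :
    ∃ l, IsTower A h l ∧ (E : Set B) ⊆ ((adj A l : Subalgebra A B) : Set B) := by
  classical
  induction E using Finset.induction with
  | empty => exact ⟨[], isTower_nil h, by simp⟩
  | insert x E hx ih =>
    obtain ⟨l, hl, hE⟩ := ih
    obtain ⟨m, hm, hxm⟩ : x ∈ reach A B h := by
      rw [eq_top_of_closed hinj hres _ (closed_reach h)]; trivial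
    refine ⟨l ++ m, hl.append hm, ?_⟩
    rw [Finset.coe_insert, Set.insert_subset_iff]
    exact ⟨adj_mono (fun _ => List.mem_append_right l) hxm,
      hE.trans fun y hy => adj_mono (fun _ => List.mem_append_left m) hy⟩

/-- Every element lies in a tower. -/
def Covered (A B : Type u) [CommRing A] [CommRing B] [Algebra A B] (h : Prop) : Prop :=
  ∀ x : B, ∃ l, IsTower A h l ∧ x ∈ adj A l

theorem eq_top_of_covered {h : Prop} (hc : Covered A B h) {S : Subalgebra A B} (hS : Closed h S) :
    S = ⊤ := eq_top_iff.mpr fun x _ => by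
  obtain ⟨l, hl, hx⟩ := hc x
  exact hl.adj_le hS hx

theorem isIntegral_of_covered {h : Prop} (hc : Covered A B h) : Algebra.IsIntegral A B := by
  refine ⟨fun x => ?_⟩
  have := eq_top_of_covered hc (S := integralClosure A B) (by
    intro b hb
    rcases hb with ⟨h2, -⟩ | ⟨-, p, hp, -, h2⟩
    · exact IsIntegral.of_pow (by omega) h2
    · exact IsIntegral.of_pow hp.pos h2)
  exact (this.symm ▸ Algebra.mem_top : x ∈ integralClosure A B)

theorem homInj_of_covered {h : Prop} (hc : Covered A B h) : HomInj (algebraMap A B) := by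
  intro K _ g g' hgg
  let gA : A →+* K := g.comp (algebraMap A B)
  letI : Algebra A K := gA.toAlgebra
  let G : B →ₐ[A] K := { g with commutes' := fun a => rfl }
  let G' : B →ₐ[A] K := { g' with commutes' := fun a => (DFunLike.congr_fun hgg a).symm }
  have := eq_top_of_covered hc (S := AlgHom.equalizer G G') (by
    intro b hb
    show g b = g' b
    rcases hb with ⟨h2, h3⟩ | ⟨-, p, hp, h1, h2⟩
    · replace h2 : g (b ^ 2) = g' (b ^ 2) := h2
      replace h3 : g (b ^ 3) = g' (b ^ 3) := h3
      rw [map_pow, map_pow] at h2 h3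
      by_cases h0 : g b = 0
      · rw [h0, zero_pow two_ne_zero] at h2
        rw [h0, pow_eq_zero_iff two_ne_zero |>.mp h2.symm]
      · have h0' : g' b ≠ 0 := fun hh => h0 (pow_eq_zero_iff two_ne_zero |>.mp (by rw [h2, hh, zero_pow two_ne_zero]))
        rw [pow_succ, h2, pow_succ (g' b) 2] at h3
        exact mul_left_cancel₀ (pow_ne_zero 2 h0') h3
    · replace h1 : g ((p : B) * b) = g' ((p : B) * b) := h1
      replace h2 : g (b ^ p) = g' (b ^ p) := h2
      simp only [map_mul, map_natCast, map_pow] at h1 h2
      by_cases hp0 : (p : K) = 0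
      · haveI : Fact p.Prime := ⟨hp⟩
        haveI : CharP K p := by
          obtain ⟨c, hc'⟩ := CharP.exists K
          have hdvd : c ∣ p := (CharP.cast_eq_zero_iff K c p).mp hp0
          rcases (Nat.dvd_prime hp).mp hdvd with rfl | rfl
          · exact absurd rfl (CharP.char_ne_one K 1)
          · exact hc'
        exact frobenius_inj K p h2
      · exact mul_left_cancel₀ hp0 h1)
  exact RingHom.ext fun x => (this.symm ▸ Algebra.mem_top : x ∈ AlgHom.equalizer G G')

theorem residue_of_covered (hc : Covered A B False) :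
    ∀ x : Spec (CommRingCat.of B),
      Function.Surjective ((Spec.map (CommRingCat.ofHom (algebraMap A B))).residueFieldMap x) := by
  rw [surjective_residueFieldMap_iff]
  intro q hq
  let p : Ideal A := q.comap (algebraMap A B)
  haveI : p.IsPrime := Ideal.IsPrime.comap _
  haveI hq' : q.IsPrime := hq
  let φ := Ideal.ResidueField.map p q (algebraMap A B) rfl
  have hm : ∀ a, φ (algebraMap A _ a) = algebraMap B q.ResidueField (algebraMap A B a) :=
    fun a => Ideal.ResidueField.map_algebraMap p q (algebraMap A B) rfl a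
  let S : Subalgebra A B :=
    { carrier := {x | algebraMap B q.ResidueField x ∈ φ.range}
      mul_mem' := fun {a b} ha hb => by
        show algebraMap B q.ResidueField (a * b) ∈ φ.range
        rw [map_mul]; exact mul_mem ha hb
      add_mem' := fun {a b} ha hb => by
        show algebraMap B q.ResidueField (a + b) ∈ φ.range
        rw [map_add]; exact add_mem ha hb
      algebraMap_mem' := fun a => ⟨_, hm a⟩ }
  have := eq_top_of_covered hc (S := S) (by
    intro b hb
    rcases hb with ⟨⟨u, hu⟩, ⟨v, hv⟩⟩ | ⟨hf, -⟩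
    · show algebraMap B q.ResidueField b ∈ φ.range
      rw [map_pow] at hu hv
      by_cases h0 : algebraMap B q.ResidueField b = 0
      · exact ⟨0, by rw [map_zero, h0]⟩
      · refine ⟨v / u, ?_⟩
        rw [map_div₀, hu, hv, div_eq_iff (pow_ne_zero 2 h0)]
        ring
    · exact hf.elim)
  intro x
  obtain ⟨y, hy⟩ := (this.symm ▸ Algebra.mem_top : x ∈ S)
  obtain ⟨cb, eb, heb, rfl⟩ := IsFractionRing.div_surjective (A ⧸ p) y
  obtain ⟨c, rfl⟩ := Ideal.Quotient.mk_surjective cb
  obtain ⟨e, rfl⟩ := Ideal.Quotient.mk_surjective eb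
  have heK : algebraMap A p.ResidueField e ≠ 0 := by
    rw [IsScalarTower.algebraMap_apply A (A ⧸ p) p.ResidueField]
    exact IsFractionRing.to_map_ne_zero_of_mem_nonZeroDivisors heb
  have heq : algebraMap A B e ∉ q := fun h' => heK (Ideal.algebraMap_residueField_eq_zero.mpr h')
  refine ⟨c, e, heq, ?_⟩
  rw [show (algebraMap (A ⧸ p) p.ResidueField) (Ideal.Quotient.mk p c) = algebraMap A p.ResidueField c from rfl,
    show (algebraMap (A ⧸ p) p.ResidueField) (Ideal.Quotient.mk p e) = algebraMap A p.ResidueField e from rfl,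
    map_div₀, hm, hm] at hy
  have hne : algebraMap B q.ResidueField (algebraMap A B e) ≠ 0 :=
    fun h' => heq (Ideal.algebraMap_residueField_eq_zero.mp h')
  rw [← Ideal.algebraMap_residueField_eq_zero (I := q), map_sub, map_mul, ← hy]
  field_simp
  ring

theorem comap_surjective_of_nil [Algebra.IsIntegral A B]
    (hnil : RingHom.ker (algebraMap A B) ≤ nilradical A) :
    Function.Surjective (PrimeSpectrum.comap (algebraMap A B)) := fun x => by
  have hle : RingHom.ker (algebraMap A B) ≤ x.asIdeal :=
    hnil.trans (nilradical_le_prime x.asIdeal)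
  obtain ⟨Q, -, hQ, hQx⟩ := Ideal.exists_ideal_over_prime_of_isIntegral x.asIdeal (⊥ : Ideal B) hle
  exact ⟨⟨Q, hQ⟩, PrimeSpectrum.ext hQx⟩

theorem ker_le_nilradical_of_surjective (hs : Function.Surjective (PrimeSpectrum.comap (algebraMap A B))) :
    RingHom.ker (algebraMap A B) ≤ nilradical A :=
  (PrimeSpectrum.denseRange_comap_iff_ker_le_nilRadical _).mp hs.denseRange

theorem univHomeo_of_covered {h : Prop} (hnil : RingHom.ker (algebraMap A B) ≤ nilradical A)
    (hc : Covered A B h) : FlatMor.IsUnivHomeo (Spec.map (CommRingCat.ofHom (algebraMap A B))) := by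
  haveI := isIntegral_of_covered hc
  exact (AWN.isUnivHomeo_spec_iff _).mpr ⟨algebraMap_isIntegral_iff.mpr inferInstance,
    homInj_of_covered hc, comap_surjective_of_nil hnil⟩

theorem of_univHomeo (hU : FlatMor.IsUnivHomeo (Spec.map (CommRingCat.ofHom (algebraMap A B)))) :
    Algebra.IsIntegral A B ∧ HomInj (algebraMap A B) ∧ RingHom.ker (algebraMap A B) ≤ nilradical A := by
  obtain ⟨h1, h2, h3⟩ := (AWN.isUnivHomeo_spec_iff _).mp hU
  exact ⟨algebraMap_isIntegral_iff.mp h1, h2, ker_le_nilradical_of_surjective h3⟩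

theorem covered_false (hU : FlatMor.IsUnivHomeo (Spec.map (CommRingCat.ofHom (algebraMap A B))))
    (hres : ∀ x : Spec (CommRingCat.of B),
      Function.Surjective ((Spec.map (CommRingCat.ofHom (algebraMap A B))).residueFieldMap x)) :
    ∀ E : Finset B, ∃ l, IsTower A False l ∧ (E : Set B) ⊆ ((adj A l : Subalgebra A B) : Set B) := by
  obtain ⟨h1, h2, -⟩ := of_univHomeo hU
  exact exists_tower h2 (res_of_surjective hres)

theorem covered_true (hU : FlatMor.IsUnivHomeo (Spec.map (CommRingCat.ofHom (algebraMap A B)))) :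
    ∀ E : Finset B, ∃ l, IsTower A True l ∧ (E : Set B) ⊆ ((adj A l : Subalgebra A B) : Set B) := by
  obtain ⟨h1, h2, -⟩ := of_univHomeo hU
  exact exists_tower h2 (res_of_homInj h2)

/-- The shape used in the statements. -/
theorem isTower_iff_fin {h : Prop} (l : List B) :
    IsTower A h l ↔ ∀ i : Fin l.length,
      Step h (Algebra.adjoin A {b : B | ∃ j : Fin l.length, j < i ∧ b = l.get j}) (l.get i) := by
  have hset : ∀ i : Fin l.length,
      {b : B | ∃ j : Fin l.length, j < i ∧ b = l.get j} = {b | b ∈ l.take i} := by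
    intro i
    ext b
    constructor
    · rintro ⟨j, hj, rfl⟩
      exact List.mem_iff_getElem.mpr ⟨j, by simp; omega, by rw [List.getElem_take]; rfl⟩
    · intro hb
      obtain ⟨j, hj, rfl⟩ := List.getElem_of_mem hb
      have hj' : j < i.1 := by simp at hj; omega
      exact ⟨⟨j, by omega⟩, hj', by rw [List.getElem_take]; rfl⟩
  constructor
  · intro hl i
    rw [hset]
    exact hl i.1 i.2
  · intro hl i hi
    have := hl ⟨i, hi⟩
    rwa [hset] at this

end Groth.Agent.UHTower
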