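import Groth.Agent.AWN.Normal

/-!
# Universal homeomorphisms and `p`-powers
-/

set_option autoImplicit false

universe u

open CategoryTheory AlgebraicGeometry

namespace Groth.Agent.UHTower

variable {A B : Type u} [CommRing A] [CommRing B] [Algebra A B] (p : ℕ) [hp : Fact p.Prime]

theorem exists_two_three (p : ℕ) (hp : p.Prime) : ∃ i j : ℕ, 2 * i + 3 * j = p := by
  rcases Nat.even_or_odd p with ⟨r, hr⟩ | ⟨r, hr⟩
  · exact ⟨r, 0, by omega⟩
  · have := hp.two_le
    exact ⟨r - 1, 1, by omega⟩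

theorem add_pow_prime_pow_sub (x y : B) (n : ℕ) : (p : B) ∣ (x + y) ^ p ^ n - (x ^ p ^ n + y ^ p ^ n) := by
  obtain ⟨r, hr⟩ := exists_add_pow_prime_pow_eq hp.out x y n
  exact ⟨x * y * r, by rw [hr]; ring⟩

/-- Elements of `D` with a `p`-power congruent modulo `p D` to an element of `A`. -/
def powSub (D : Subalgebra A B) : Subalgebra A B where
  carrier := {x | x ∈ D ∧ ∃ (n : ℕ) (a : A) (d : B), d ∈ D ∧ x ^ p ^ n - algebraMap A B a = (p : B) * d}
  algebraMap_mem' a := ⟨D.algebraMap_mem a, 0, a, 0, zero_mem _, by simp⟩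
  mul_mem' := by
    rintro x y ⟨hx, n, a, d, hd, hxd⟩ ⟨hy, m, b, e, he, hye⟩
    refine ⟨mul_mem hx hy, n + m, a ^ p ^ m * b ^ p ^ n, ?_⟩
    obtain ⟨d', hd', h1⟩ : ∃ d' ∈ D, (x ^ p ^ n) ^ p ^ m - algebraMap A B a ^ p ^ m = (p : B) * d' := by
      obtain ⟨c, hc⟩ := sub_dvd_pow_sub_pow (⟨x ^ p ^ n, pow_mem hx _⟩ : D) ⟨algebraMap A B a, D.algebraMap_mem a⟩ (p ^ m)
      refine ⟨d * c.1, mul_mem hd c.2, ?_⟩
      rw [← mul_assoc, ← hxd]
      exact congrArg Subtype.val hc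
    obtain ⟨e', he', h2⟩ : ∃ e' ∈ D, (y ^ p ^ m) ^ p ^ n - algebraMap A B b ^ p ^ n = (p : B) * e' := by
      obtain ⟨c, hc⟩ := sub_dvd_pow_sub_pow (⟨y ^ p ^ m, pow_mem hy _⟩ : D) ⟨algebraMap A B b, D.algebraMap_mem b⟩ (p ^ n)
      refine ⟨e * c.1, mul_mem he c.2, ?_⟩
      rw [← mul_assoc, ← hye]
      exact congrArg Subtype.val hc
    refine ⟨d' * (y ^ p ^ m) ^ p ^ n + algebraMap A B a ^ p ^ m * e',
      add_mem (mul_mem hd' (pow_mem (pow_mem hy _) _)) (mul_mem (pow_mem (D.algebraMap_mem a) _) he'), ?_⟩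
    rw [mul_add, ← mul_assoc, ← h1, mul_left_comm, ← h2, mul_pow, map_mul, map_pow, map_pow,
      ← pow_mul, ← pow_mul, ← pow_add, ← pow_add, add_comm m n]
    ring
  add_mem' := by
    rintro x y ⟨hx, n, a, d, hd, hxd⟩ ⟨hy, m, b, e, he, hye⟩
    refine ⟨add_mem hx hy, n + m, a ^ p ^ m + b ^ p ^ n, ?_⟩
    obtain ⟨d', hd', h1⟩ : ∃ d' ∈ D, (x ^ p ^ n) ^ p ^ m - algebraMap A B a ^ p ^ m = (p : B) * d' := by
      obtain ⟨c, hc⟩ := sub_dvd_pow_sub_pow (⟨x ^ p ^ n, pow_mem hx _⟩ : D) ⟨algebraMap A B a, D.algebraMap_mem a⟩ (p ^ m)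
      refine ⟨d * c.1, mul_mem hd c.2, ?_⟩
      rw [← mul_assoc, ← hxd]
      exact congrArg Subtype.val hc
    obtain ⟨e', he', h2⟩ : ∃ e' ∈ D, (y ^ p ^ m) ^ p ^ n - algebraMap A B b ^ p ^ n = (p : B) * e' := by
      obtain ⟨c, hc⟩ := sub_dvd_pow_sub_pow (⟨y ^ p ^ m, pow_mem hy _⟩ : D) ⟨algebraMap A B b, D.algebraMap_mem b⟩ (p ^ n)
      refine ⟨e * c.1, mul_mem he c.2, ?_⟩
      rw [← mul_assoc, ← hye]
      exact congrArg Subtype.val hc
    obtain ⟨r, hr⟩ := exists_add_pow_prime_pow_eq hp.out (⟨x, hx⟩ : D) ⟨y, hy⟩ (n + m)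
    refine ⟨d' + e' + ((⟨x, hx⟩ : D) * ⟨y, hy⟩ * r).1, add_mem (add_mem hd' he') (Subtype.coe_prop _), ?_⟩
    have hr' := congrArg Subtype.val hr
    simp only [Subalgebra.coe_add, Subalgebra.coe_pow, Subalgebra.coe_mul, map_natCast] at hr' ⊢
    rw [hr', mul_add, mul_add, ← h1, ← h2, map_add, map_pow, map_pow, ← pow_mul, ← pow_mul, ← pow_add, ← pow_add,
      add_comm m n]
    push_cast
    ring

theorem le_powSub_of_tower {h : Prop} {l : List B} (hl : IsTower A h l) :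
    adj A l ≤ powSub p (adj A l) := by
  set D := adj A l
  have key : ∀ i (hi : i < l.length), l[i] ∈ powSub p D := by
    intro i
    induction i using Nat.strong_induction_on with
    | _ i ih =>
      intro hi
      have hle : adj A (l.take i) ≤ powSub p D := Algebra.adjoin_le fun b hb => by
        obtain ⟨j, hj, rfl⟩ := List.getElem_of_mem hb
        rw [List.getElem_take]
        exact ih j (by simp at hj; omega) _
      have hb : l[i] ∈ D := mem_adj (List.getElem_mem hi)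
      exact step_mem p hb ((hl i hi).mono hle)
  exact Algebra.adjoin_le fun b hb => by
    obtain ⟨j, hj, rfl⟩ := List.getElem_of_mem hb
    exact key j hj
where
  step_mem (p : ℕ) [hp : Fact p.Prime] {A B : Type u} [CommRing A] [CommRing B] [Algebra A B] {h : Prop}
      {D : Subalgebra A B} {b : B} (hb : b ∈ D) (hs : Step h (powSub p D) b) : b ∈ powSub p D := by
    have hbp : b ^ p ∈ powSub p D → b ∈ powSub p D := by
      rintro ⟨-, n, a, d, hd, h1⟩
      exact ⟨hb, n + 1, a, d, hd, by rw [pow_succ', pow_mul]; exact h1⟩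
    rcases hs with ⟨h2, h3⟩ | ⟨-, q, hq, h1, h2⟩
    · obtain ⟨i, j, hij⟩ := exists_two_three p hp.out
      refine hbp ?_
      have hbij : b ^ p = (b ^ 2) ^ i * (b ^ 3) ^ j := by rw [← pow_mul, ← pow_mul, ← pow_add, hij]
      rw [hbij]
      exact mul_mem (pow_mem h2 i) (pow_mem h3 j)
    · by_cases hqp : q = p
      · exact hbp (hqp ▸ h2)
      · have hcop : Nat.Coprime q p := (Nat.coprime_primes hq hp.out).mpr hqp
        have hbez := Nat.gcd_eq_gcd_ab q p
        rw [hcop.gcd_eq_one] at hbez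
        have hpb : (p : B) * b ∈ powSub p D := ⟨mul_mem (natCast_mem D p) hb, 0, 0, b, hb, by simp⟩
        have hb' : b = (Nat.gcdA q p : ℤ) • ((q : B) * b) + (Nat.gcdB q p : ℤ) • ((p : B) * b) := by
          have h4 := congrArg (fun z : ℤ => (z : B)) hbez
          push_cast at h4
          rw [zsmul_eq_mul, zsmul_eq_mul]
          linear_combination b * h4
        rw [hb']
        exact add_mem (zsmul_mem h1 _) (zsmul_mem hpb _)

theorem univHomeo_of_pPow (hnil : RingHom.ker (algebraMap A B) ≤ nilradical A)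
    (hb : ∀ b : B, ∃ n : ℕ, (p ^ n : B) * b ∈ (algebraMap A B).range ∧ b ^ p ^ n ∈ (algebraMap A B).range) :
    FlatMor.IsUnivHomeo (Spec.map (CommRingCat.ofHom (algebraMap A B))) := by
  haveI : Algebra.IsIntegral A B := ⟨fun b => by
    obtain ⟨n, -, a, ha⟩ := hb b
    exact IsIntegral.of_pow (pow_pos hp.out.pos n) (ha ▸ isIntegral_algebraMap)⟩
  refine (AWN.isUnivHomeo_spec_iff _).mpr ⟨algebraMap_isIntegral_iff.mpr inferInstance,
    fun K _ g g' hgg => RingHom.ext fun b => ?_, comap_surjective_of_nil hnil⟩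
  obtain ⟨n, ⟨a₁, ha₁⟩, a₂, ha₂⟩ := hb b
  have e1 : (p : K) ^ n * g b = (p : K) ^ n * g' b := by
    have := RingHom.congr_fun hgg a₁
    simp only [RingHom.comp_apply, ha₁, map_mul, map_pow, map_natCast] at this
    exact this
  have e2 : g b ^ p ^ n = g' b ^ p ^ n := by
    have := RingHom.congr_fun hgg a₂
    simp only [RingHom.comp_apply, ha₂, map_pow] at this
    exact this
  by_cases hp0 : (p : K) = 0
  · haveI : CharP K p := (CharP.charP_iff_prime_eq_zero hp.out).mpr hp0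
    exact (frobenius_inj K p).iterate n (by rwa [iterate_frobenius, iterate_frobenius])
  · exact mul_left_cancel₀ (pow_ne_zero _ hp0) e1

theorem pPow_of_univHomeo (hU : FlatMor.IsUnivHomeo (Spec.map (CommRingCat.ofHom (algebraMap A B))))
    (hloc : ∀ b : B, ∃ m : ℕ, (p ^ m : B) * b ∈ (algebraMap A B).range) (b : B) :
    ∃ n : ℕ, (p ^ n : B) * b ∈ (algebraMap A B).range ∧ b ^ p ^ n ∈ (algebraMap A B).range := by
  classical
  obtain ⟨hint, -, -⟩ := of_univHomeo hU
  obtain ⟨l, hl, hE⟩ := covered_true hU {b}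
  have hbD : b ∈ adj A l := hE (by simp)
  obtain ⟨-, n, a, d, hd, hbd⟩ := le_powSub_of_tower p hl hbD
  have hfg : (Subalgebra.toSubmodule (adj A l)).FG :=
    fg_adjoin_of_finite (List.finite_toSet l) fun x _ => Algebra.IsIntegral.isIntegral x
  obtain ⟨G, hG⟩ := hfg
  choose m hm using hloc
  let k := G.sup m
  have hk : ∀ x ∈ adj A l, (p ^ k : B) * x ∈ (algebraMap A B).range := by
    intro x hx
    replace hx : x ∈ Submodule.span A (G : Set B) := hG.symm ▸ hx
    induction hx using Submodule.span_induction with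
    | mem y hy =>
      obtain ⟨a', ha'⟩ := hm y
      refine ⟨(p : A) ^ (k - m y) * a', ?_⟩
      rw [map_mul, map_pow, map_natCast, ha', ← mul_assoc, ← pow_add,
        Nat.sub_add_cancel (Finset.le_sup (f := m) (Finset.mem_coe.mp hy))]
    | zero => exact ⟨0, by simp⟩
    | add y z _ _ hy hz => rw [mul_add]; exact add_mem hy hz
    | smul c y _ hy =>
      rw [Algebra.smul_def, mul_left_comm]
      exact mul_mem ⟨c, rfl⟩ hy
  have hbk : (p ^ (n + k) : B) * b ∈ (algebraMap A B).range := by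
    rw [pow_add, mul_assoc]
    exact mul_mem (pow_mem (natCast_mem _ p) n) (hk b hbD)
  refine ⟨n + k, hbk, ?_⟩
  obtain ⟨c, hc⟩ := dvd_sub_pow_of_dvd_sub (R := adj A l) (p := p)
    (a := ⟨b ^ p ^ n, pow_mem hbD _⟩) (b := ⟨algebraMap A B a, Subalgebra.algebraMap_mem _ a⟩)
    ⟨⟨d, hd⟩, Subtype.ext (by simpa using hbd)⟩ k
  have hc' := congrArg Subtype.val hc
  simp only [Subalgebra.coe_sub, Subalgebra.coe_pow, Subalgebra.coe_mul, map_natCast, SubringClass.coe_natCast] at hc'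
  rw [pow_add, pow_mul, sub_eq_iff_eq_add.mp hc']
  refine add_mem ?_ (pow_mem (RingHom.mem_range_self (algebraMap A B) a) _)
  rw [pow_succ, mul_assoc]
  exact hk _ (mul_mem (natCast_mem _ p) c.2)

end Groth.Agent.UHTower
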