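import Groth.Agent.UHTower.Tower
import Mathlib.RingTheory.FinitePresentation
import Mathlib.CategoryTheory.Filtered.Basic
import Mathlib.CategoryTheory.Limits.Shapes.Terminal
import Mathlib.CategoryTheory.Comma.Over.Basic

/-!
# Universal homeomorphisms are filtered colimits of finitely presented ones

`exists_colimit`: if every finite subset of `B` lies in a tower over `A` and the kernel is nil, then
`B` is the colimit of finitely presented `A`-algebras covered by towers, with nil kernel.
-/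

set_option autoImplicit false

universe u

open CategoryTheory AlgebraicGeometry

namespace Groth.Agent.UHTower

variable {A B : Type u} [CommRing A] [CommRing B] [Algebra A B] {h : Prop}

/-- Polynomials in finitely many elements of `B`. -/
abbrev Poly (A : Type u) {B : Type u} [CommRing A] (S : Finset B) : Type u :=
  MvPolynomial {x : B // x ∈ S} A

/-- Evaluation. -/
noncomputable def ev (A : Type u) {B : Type u} [CommRing A] [CommRing B] [Algebra A B] (S : Finset B) :
    Poly A S →ₐ[A] B := MvPolynomial.aeval Subtype.val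

@[simp] theorem ev_X (S : Finset B) (x : {x : B // x ∈ S}) : ev A S (MvPolynomial.X x) = x.1 := by
  simp [ev]

/-- Renaming along an inclusion. -/
noncomputable def incl (A : Type u) {B : Type u} [CommRing A] {S S' : Finset B} (hS : S ⊆ S') :
    Poly A S →ₐ[A] Poly A S' := MvPolynomial.rename fun x => ⟨x.1, hS x.2⟩

theorem ev_incl {S S' : Finset B} (hS : S ⊆ S') (p : Poly A S) : ev A S' (incl A hS p) = ev A S p := by
  rw [incl, ev, MvPolynomial.aeval_rename]; rfl

/-- `Φ` can be forced by finitely many relations in the kernel of `e`. -/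
def Forced {P : Type u} [CommRing P] [Algebra A P] (e : P →ₐ[A] B)
    (Φ : ∀ (Q : Type u) [CommRing Q] [Algebra A Q], (P →ₐ[A] Q) → Prop) : Prop :=
  ∃ R : Finset P, (∀ r ∈ R, e r = 0) ∧ ∀ (Q : Type u) [CommRing Q] [Algebra A Q] (ψ : P →ₐ[A] Q),
    (∀ r ∈ R, ψ r = 0) → Φ Q ψ

variable {P : Type u} [CommRing P] [Algebra A P] (e : P →ₐ[A] B)

theorem forced_mem {u : P} {T : Set P} (hu : e u ∈ Algebra.adjoin A (e '' T)) :
    Forced e fun Q _ _ ψ => ψ u ∈ Algebra.adjoin A (ψ '' T) := by
  rw [← AlgHom.map_adjoin] at hu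
  obtain ⟨v, hv, hev⟩ := hu
  refine ⟨{u - v}, by simp only [Finset.mem_singleton, forall_eq, map_sub, sub_eq_zero]; exact hev.symm,
    fun Q _ _ ψ hψ => ?_⟩
  have : ψ u = ψ v := by
    simpa [sub_eq_zero] using hψ (u - v) (by simp)
  show ψ u ∈ Algebra.adjoin A (ψ '' T)
  rw [this, ← AlgHom.map_adjoin]
  exact ⟨v, hv, rfl⟩

variable {e}

theorem Forced.and {Φ Ψ : ∀ (Q : Type u) [CommRing Q] [Algebra A Q], (P →ₐ[A] Q) → Prop}
    (h1 : Forced e Φ) (h2 : Forced e Ψ) :
    Forced e fun Q _ _ ψ => Φ Q ψ ∧ Ψ Q ψ := by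
  classical
  obtain ⟨R, hR, h1⟩ := h1
  obtain ⟨R', hR', h2⟩ := h2
  refine ⟨R ∪ R', fun r hr => (Finset.mem_union.mp hr).elim (hR r) (hR' r), fun Q _ _ ψ hψ => ?_⟩
  exact ⟨h1 Q ψ fun r hr => hψ r (Finset.mem_union_left _ hr),
    h2 Q ψ fun r hr => hψ r (Finset.mem_union_right _ hr)⟩

theorem Forced.imp {Φ Ψ : ∀ (Q : Type u) [CommRing Q] [Algebra A Q], (P →ₐ[A] Q) → Prop}
    (h1 : Forced e Φ)
    (himp : ∀ (Q : Type u) [CommRing Q] [Algebra A Q] (ψ : P →ₐ[A] Q), Φ Q ψ → Ψ Q ψ) :
    Forced e Ψ := by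
  obtain ⟨R, hR, h1⟩ := h1
  exact ⟨R, hR, fun Q _ _ ψ hψ => himp Q ψ (h1 Q ψ hψ)⟩

theorem forced_forall {ι : Type*} [Fintype ι]
    {Φ : ι → ∀ (Q : Type u) [CommRing Q] [Algebra A Q], (P →ₐ[A] Q) → Prop}
    (h1 : ∀ i, Forced e (Φ i)) : Forced e fun Q _ _ ψ => ∀ i, Φ i Q ψ := by
  classical
  choose R hR hΦ using h1
  refine ⟨Finset.univ.biUnion R, fun r hr => ?_, fun Q _ _ ψ hψ i => hΦ i Q ψ fun r hr =>
    hψ r (Finset.mem_biUnion.mpr ⟨i, Finset.mem_univ i, hr⟩)⟩
  obtain ⟨i, -, hi⟩ := Finset.mem_biUnion.mp hr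
  exact hR i r hi

theorem forced_step {u : P} {T : List P} (hs : Step h (adj A (T.map e)) (e u)) :
    Forced e fun Q _ _ ψ => Step h (adj A (T.map ψ)) (ψ u) := by
  have key : ∀ w : P, e w ∈ adj A (T.map e) → Forced e fun Q _ _ ψ => ψ w ∈ adj A (T.map ψ) := by
    intro w hw
    have hset : ∀ {Q : Type u} [CommRing Q] [Algebra A Q] (ψ : P →ₐ[A] Q),
        {b : Q | b ∈ T.map ψ} = ψ '' {b | b ∈ T} := fun ψ => by ext b; simp
    have := forced_mem e (u := w) (T := {b | b ∈ T}) (by rw [← hset e]; exact hw)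
    refine this.imp fun Q _ _ ψ hψ => ?_
    rw [adj, hset ψ]; exact hψ
  rcases hs with ⟨h2, h3⟩ | ⟨hh, p, hp, h1, h2⟩
  · refine ((key (u ^ 2) (by rwa [map_pow])).and (key (u ^ 3) (by rwa [map_pow]))).imp
      fun Q _ _ ψ hψ => .inl ?_
    simpa only [map_pow] using hψ
  · refine ((key ((p : P) * u) (by rwa [map_mul, map_natCast])).and (key (u ^ p) (by rwa [map_pow]))).imp
      fun Q _ _ ψ hψ => .inr ⟨hh, p, hp, ?_⟩
    simpa only [map_mul, map_natCast, map_pow] using hψ

theorem forced_tower {L : List P} (hL : IsTower A h (L.map e)) :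
    Forced e fun Q _ _ ψ => IsTower A h (L.map ψ) := by
  refine (forced_forall (ι := Fin L.length) (Φ := fun i Q _ _ ψ =>
    Step h (adj A ((L.take i.1).map ψ)) (ψ L[i.1])) fun i => forced_step ?_).imp ?_
  · have := hL i.1 (by simp)
    simpa only [List.getElem_map, ← List.map_take] using this
  · intro Q _ _ ψ hψ i hi
    have := hψ ⟨i, by simpa using hi⟩
    simpa only [List.getElem_map, ← List.map_take] using this

/-- Finitely presented approximations. -/
structure Idx (A B : Type u) [CommRing A] [CommRing B] [Algebra A B] (h : Prop) : Type u where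
  S : Finset B
  I : Ideal (Poly A S)
  fg : I.FG
  le : I ≤ RingHom.ker (ev A S)
  good : Covered A (Poly A S ⧸ I) h

instance : Preorder (Idx A B h) where
  le j k := ∃ hS : j.S ⊆ k.S, ∀ p ∈ j.I, incl A hS p ∈ k.I
  le_refl j := ⟨subset_rfl, fun p hp => by
    have : incl A (subset_refl j.S) = AlgHom.id A _ := MvPolynomial.algHom_ext fun x => by
      simp [incl]
    rw [this]; exact hp⟩
  le_trans j k l hjk hkl := ⟨hjk.1.trans hkl.1, fun p hp => by
    have : incl A (hjk.1.trans hkl.1) = (incl A hkl.1).comp (incl A hjk.1) :=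
      MvPolynomial.algHom_ext fun x => by simp [incl]
    rw [this]; exact hkl.2 _ (hjk.2 p hp)⟩

theorem exists_idx (hc : ∀ E : Finset B, ∃ l, IsTower A h l ∧ (E : Set B) ⊆ ((adj A l : Subalgebra A B) : Set B))
    (S₀ : Finset B) (R₀ : Finset (Poly A S₀)) (hR₀ : ∀ r ∈ R₀, ev A S₀ r = 0) :
    ∃ (j : Idx A B h) (hS : S₀ ⊆ j.S), ∀ r ∈ R₀, incl A hS r ∈ j.I := by
  classical
  obtain ⟨l, hl, hE⟩ := hc S₀
  let S : Finset B := S₀ ∪ l.toFinset
  have hS : S₀ ⊆ S := Finset.subset_union_left
  have hlS : ∀ b ∈ l, b ∈ S := fun b hb => Finset.mem_union_right _ (List.mem_toFinset.mpr hb)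
  let L : List (Poly A S) := l.attach.map fun b => MvPolynomial.X ⟨b.1, hlS b.1 b.2⟩
  have hLe : L.map (ev A S) = l := by
    simp only [L, List.map_map, Function.comp_def, ev_X]
    exact List.attach_map_val.trans (List.map_id l)
  have hX : ∀ x : {x : B // x ∈ S}, (x : B) ∈ adj A l := fun x => by
    rcases Finset.mem_union.mp x.2 with h' | h'
    · exact hE h'
    · exact mem_adj (List.mem_toFinset.mp h')
  obtain ⟨R, hR, hforce⟩ := (forced_tower (e := ev A S) (L := L) (h := h) (by rw [hLe]; exact hl)).and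
    (forced_forall (ι := {x : B // x ∈ S})
      (Φ := fun x Q _ _ ψ => ψ (MvPolynomial.X x) ∈ Algebra.adjoin A (ψ '' {b | b ∈ L}))
      fun x => forced_mem (ev A S) (by
        have : (ev A S) '' {b | b ∈ L} = {b | b ∈ l} := by
          ext b; rw [← hLe]; simp
        rw [this, ev_X]; exact hX x))
  let I : Ideal (Poly A S) := Ideal.span ((R : Set (Poly A S)) ∪ (R₀.image (incl A hS) : Set _))
  have hker : I ≤ RingHom.ker (ev A S) := Ideal.span_le.mpr (by
    rintro r (hr | hr)
    · exact hR r hr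
    · obtain ⟨r₀, hr₀, rfl⟩ := Finset.mem_image.mp hr
      show ev A S (incl A hS r₀) = 0
      rw [ev_incl]; exact hR₀ r₀ hr₀)
  obtain ⟨hT, hgen⟩ := hforce (Poly A S ⧸ I) (Ideal.Quotient.mkₐ A I) fun r hr =>
    Ideal.Quotient.eq_zero_iff_mem.mpr (Ideal.subset_span (.inl hr))
  have hgood : Covered A (Poly A S ⧸ I) h := fun z => by
    refine ⟨_, hT, ?_⟩
    obtain ⟨q, rfl⟩ := Ideal.Quotient.mk_surjective z
    have hq : q ∈ Subalgebra.comap (Ideal.Quotient.mkₐ A I) (adj A (L.map (Ideal.Quotient.mkₐ A I))) := by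
      have : Algebra.adjoin A (Set.range (MvPolynomial.X : {x : B // x ∈ S} → Poly A S)) ≤
          Subalgebra.comap (Ideal.Quotient.mkₐ A I) (adj A (L.map (Ideal.Quotient.mkₐ A I))) :=
        Algebra.adjoin_le (by
          rintro _ ⟨x, rfl⟩
          show Ideal.Quotient.mkₐ A I (MvPolynomial.X x) ∈ adj A (L.map (Ideal.Quotient.mkₐ A I))
          have hset : {b | b ∈ L.map (Ideal.Quotient.mkₐ A I)} = Ideal.Quotient.mkₐ A I '' {b | b ∈ L} := by
            ext b; simp
          rw [adj, hset]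
          exact hgen x)
      exact this (by rw [MvPolynomial.adjoin_range_X]; trivial)
    exact hq
  refine ⟨⟨S, I, ⟨R ∪ R₀.image (incl A hS), by rw [Finset.coe_union]⟩, hker, hgood⟩, hS,
    fun r hr => Ideal.subset_span (.inr ?_)⟩
  exact Finset.mem_image_of_mem _ hr

theorem idx_directed (hc : ∀ E : Finset B, ∃ l, IsTower A h l ∧ (E : Set B) ⊆ ((adj A l : Subalgebra A B) : Set B))
    (j k : Idx A B h) : ∃ m, j ≤ m ∧ k ≤ m := by
  classical
  obtain ⟨Rj, hRj⟩ := j.fg
  obtain ⟨Rk, hRk⟩ := k.fg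
  let iₗ := incl A (Finset.subset_union_left : j.S ⊆ j.S ∪ k.S)
  let iᵣ := incl A (Finset.subset_union_right : k.S ⊆ j.S ∪ k.S)
  obtain ⟨m, hm, hmem⟩ := exists_idx hc (j.S ∪ k.S) (Rj.image iₗ ∪ Rk.image iᵣ) (fun r hr => by
    rcases Finset.mem_union.mp hr with hr | hr <;> obtain ⟨r', hr', rfl⟩ := Finset.mem_image.mp hr <;>
      rw [ev_incl]
    · exact j.le (hRj ▸ Ideal.subset_span hr')
    · exact k.le (hRk ▸ Ideal.subset_span hr'))
  refine ⟨m, ⟨Finset.subset_union_left.trans hm, fun p hp => ?_⟩,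
    ⟨Finset.subset_union_right.trans hm, fun p hp => ?_⟩⟩
  · have e : incl A (Finset.subset_union_left.trans hm) = (incl A hm).comp iₗ :=
      MvPolynomial.algHom_ext fun x => by simp [incl, iₗ]
    rw [e]
    have : Ideal.span (Rj : Set _) ≤ m.I.comap ((incl A hm).comp iₗ) := Ideal.span_le.mpr fun r hr =>
      hmem _ (Finset.mem_union_left _ (Finset.mem_image_of_mem _ hr))
    exact this (hRj ▸ hp)
  · have e : incl A (Finset.subset_union_right.trans hm) = (incl A hm).comp iᵣ :=
      MvPolynomial.algHom_ext fun x => by simp [incl, iᵣ]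
    rw [e]
    have : Ideal.span (Rk : Set _) ≤ m.I.comap ((incl A hm).comp iᵣ) := Ideal.span_le.mpr fun r hr =>
      hmem _ (Finset.mem_union_right _ (Finset.mem_image_of_mem _ hr))
    exact this (hRk ▸ hp)

/-- Transition maps. -/
noncomputable def trans {j k : Idx A B h} (hjk : j ≤ k) : (Poly A j.S ⧸ j.I) →ₐ[A] (Poly A k.S ⧸ k.I) :=
  Ideal.quotientMapₐ k.I (incl A hjk.1) fun p hp => hjk.2 p hp

theorem trans_mk {j k : Idx A B h} (hjk : j ≤ k) (x : {x : B // x ∈ j.S}) :
    trans hjk (Ideal.Quotient.mk j.I (MvPolynomial.X x)) =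
      Ideal.Quotient.mk k.I (MvPolynomial.X ⟨x.1, hjk.1 x.2⟩) := by
  show Ideal.Quotient.mk k.I (incl A hjk.1 (MvPolynomial.X x)) = _
  simp [incl]

theorem algHom_ext_idx {j : Idx A B h} {Q : Type u} [CommRing Q] [Algebra A Q]
    {f g : (Poly A j.S ⧸ j.I) →ₐ[A] Q}
    (hfg : ∀ x, f (Ideal.Quotient.mk j.I (MvPolynomial.X x)) = g (Ideal.Quotient.mk j.I (MvPolynomial.X x))) :
    f = g :=
  Ideal.Quotient.algHom_ext _ (MvPolynomial.algHom_ext fun x => hfg x)

variable (A B h)

/-- The diagram. -/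
noncomputable def diagram : Idx A B h ⥤ Under (CommRingCat.of A) where
  obj j := Under.mk (CommRingCat.ofHom (algebraMap A (Poly A j.S ⧸ j.I)))
  map {j k} f := Under.homMk (CommRingCat.ofHom (trans (leOfHom f)).toRingHom)
    (CommRingCat.hom_ext (RingHom.ext fun a => (trans (leOfHom f)).commutes a))
  map_id j := by
    refine Under.UnderMorphism.ext (CommRingCat.hom_ext ?_)
    have : trans (le_refl j) = AlgHom.id A _ := algHom_ext_idx fun x => trans_mk _ x
    exact congrArg AlgHom.toRingHom this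
  map_comp {j k l} f g := by
    refine Under.UnderMorphism.ext (CommRingCat.hom_ext ?_)
    have : trans (leOfHom (f ≫ g)) = (trans (leOfHom g)).comp (trans (leOfHom f)) :=
      algHom_ext_idx fun x => by simp [trans_mk]
    exact congrArg AlgHom.toRingHom this

/-- Evaluation on an approximation. -/
noncomputable def leg (j : Idx A B h) : (Poly A j.S ⧸ j.I) →ₐ[A] B :=
  Ideal.Quotient.liftₐ j.I (ev A j.S) fun p hp => j.le hp

@[simp] theorem leg_mk (j : Idx A B h) (p : Poly A j.S) :
    leg A B h j (Ideal.Quotient.mk j.I p) = ev A j.S p := Ideal.Quotient.lift_mk _ _ _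

/-- The cocone with point `B`. -/
noncomputable def cocone : Limits.Cocone (diagram A B h) where
  pt := Under.mk (CommRingCat.ofHom (algebraMap A B))
  ι :=
    { app := fun j => Under.homMk (CommRingCat.ofHom (leg A B h j).toRingHom)
        (CommRingCat.hom_ext (RingHom.ext fun a => (leg A B h j).commutes a))
      naturality := fun j k f => by
        refine Under.UnderMorphism.ext (CommRingCat.hom_ext ?_)
        have : (leg A B h k).comp (trans (leOfHom f)) = leg A B h j := algHom_ext_idx fun x => by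
          rw [AlgHom.comp_apply, trans_mk, leg_mk, leg_mk, ev_X, ev_X]
        exact congrArg AlgHom.toRingHom this }

variable {A B h}

theorem nonempty_isColimit_cocone (hc : ∀ E : Finset B, ∃ l, IsTower A h l ∧ (E : Set B) ⊆ ((adj A l : Subalgebra A B) : Set B)) :
    Nonempty (Limits.IsColimit (cocone A B h)) := by
  classical
  have hex : ∀ b : B, ∃ j : Idx A B h, b ∈ j.S := fun b => by
    obtain ⟨j, hj, -⟩ := exists_idx (h := h) hc {b} ∅ (by simp)
    exact ⟨j, hj (by simp)⟩
  choose jb hjb using hex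
  refine ⟨?_⟩
  let val : ∀ (s : Limits.Cocone (diagram A B h)) (j : Idx A B h) (x : {x : B // x ∈ j.S}), s.pt.right :=
    fun s j x => (s.ι.app j).right.hom (Ideal.Quotient.mk j.I (MvPolynomial.X x))
  have hnat : ∀ (s : Limits.Cocone (diagram A B h)) {j k : Idx A B h} (hjk : j ≤ k) (z : Poly A j.S ⧸ j.I),
      (s.ι.app k).right.hom (trans hjk z) = (s.ι.app j).right.hom z := fun s j k hjk z =>
    DFunLike.congr_fun (congrArg (fun f => f.right.hom) (s.w (homOfLE hjk))) z
  have hval : ∀ s (j : Idx A B h) (b : B) (hb : b ∈ j.S),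
      val s j ⟨b, hb⟩ = val s (jb b) ⟨b, hjb b⟩ := by
    intro s j b hb
    obtain ⟨m, h1, h2⟩ := idx_directed hc j (jb b)
    simp only [val]
    rw [← hnat s h1, ← hnat s h2, trans_mk, trans_mk]
  let f : ∀ s : Limits.Cocone (diagram A B h), B → s.pt.right := fun s b => val s (jb b) ⟨b, hjb b⟩
  have hleg : ∀ (j : Idx A B h) (p : Poly A j.S), ev A j.S p = 0 →
      ∃ k, ∃ hjk : j ≤ k, trans hjk (Ideal.Quotient.mk j.I p) = 0 := by
    intro j p hp
    obtain ⟨R, hR⟩ := j.fg
    obtain ⟨k, hk, hmem⟩ := exists_idx (h := h) hc j.S (insert p R) (fun r hr => by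
      rcases Finset.mem_insert.mp hr with rfl | hr
      · exact hp
      · exact j.le (hR ▸ Ideal.subset_span hr))
    refine ⟨k, ⟨hk, fun q hq => ?_⟩, Ideal.Quotient.eq_zero_iff_mem.mpr (hmem p (Finset.mem_insert_self _ _))⟩
    have : Ideal.span (R : Set _) ≤ k.I.comap (incl A hk) := Ideal.span_le.mpr fun r hr =>
      hmem r (Finset.mem_insert_of_mem hr)
    exact this (hR ▸ hq)
  have hf : ∀ s (j : Idx A B h) (p : Poly A j.S),
      f s (ev A j.S p) = (s.ι.app j).right.hom (Ideal.Quotient.mk j.I p) := by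
    intro s j p
    set b := ev A j.S p
    obtain ⟨m, h1, h2⟩ := idx_directed hc j (jb b)
    have hb : b ∈ m.S := h2.1 (hjb b)
    obtain ⟨k, hmk, hk⟩ := hleg m (incl A h1.1 p - MvPolynomial.X ⟨b, hb⟩)
      (by rw [map_sub, ev_incl, ev_X, sub_self])
    show val s (jb b) ⟨b, hjb b⟩ = _
    rw [← hval s m b hb]
    simp only [val]
    rw [← hnat s h1, ← hnat s hmk, ← hnat s hmk (trans h1 _)]
    congr 1
    rw [map_sub, map_sub, sub_eq_zero] at hk
    exact hk.symm
  have hadd : ∀ s (a b : B) (j : Idx A B h) (ha : a ∈ j.S) (hb : b ∈ j.S),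
      f s (a + b) = f s a + f s b ∧ f s (a * b) = f s a * f s b := by
    intro s a b j ha hb
    have e1 := hf s j (MvPolynomial.X ⟨a, ha⟩)
    have e2 := hf s j (MvPolynomial.X ⟨b, hb⟩)
    have e3 := hf s j (MvPolynomial.X ⟨a, ha⟩ + MvPolynomial.X ⟨b, hb⟩)
    have e4 := hf s j (MvPolynomial.X ⟨a, ha⟩ * MvPolynomial.X ⟨b, hb⟩)
    rw [ev_X] at e1 e2
    rw [map_add, ev_X, ev_X, map_add] at e3
    rw [map_mul, ev_X, ev_X, map_mul] at e4
    refine ⟨e3.trans ((map_add _ _ _).trans ?_), e4.trans ((map_mul _ _ _).trans ?_)⟩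
    · exact congrArg₂ (· + ·) e1.symm e2.symm
    · exact congrArg₂ (· * ·) e1.symm e2.symm
  have halg : ∀ s (a : A), f s (algebraMap A B a) = s.pt.hom.hom a := by
    intro s a
    have := hf s (jb (algebraMap A B a)) (algebraMap A _ a)
    rw [AlgHom.commutes] at this
    rw [this]
    exact DFunLike.congr_fun (congrArg CommRingCat.Hom.hom (Under.w (s.ι.app (jb (algebraMap A B a))))) a
  have hpair : ∀ a b : B, ∃ j : Idx A B h, a ∈ j.S ∧ b ∈ j.S := fun a b => by
    obtain ⟨m, h1, h2⟩ := idx_directed hc (jb a) (jb b)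
    exact ⟨m, h1.1 (hjb a), h2.1 (hjb b)⟩
  let F : ∀ s : Limits.Cocone (diagram A B h), B →+* s.pt.right := fun s =>
    { toFun := f s
      map_one' := by
        have := halg s 1
        rw [map_one, map_one] at this
        exact this
      map_mul' := fun a b => by
        obtain ⟨j, ha, hb⟩ := hpair a b
        exact (hadd s a b j ha hb).2
      map_zero' := by
        have := halg s 0
        rw [map_zero, map_zero] at this
        exact this
      map_add' := fun a b => by
        obtain ⟨j, ha, hb⟩ := hpair a b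
        exact (hadd s a b j ha hb).1 }
  exact
    { desc := fun s => Under.homMk (CommRingCat.ofHom (F s))
        (CommRingCat.hom_ext (RingHom.ext fun a => halg s a))
      fac := fun s j => by
        refine Under.UnderMorphism.ext (CommRingCat.hom_ext (RingHom.ext fun z => ?_))
        obtain ⟨p, rfl⟩ := Ideal.Quotient.mk_surjective z
        exact hf s j p
      uniq := fun s m hm => by
        refine Under.UnderMorphism.ext (CommRingCat.hom_ext (RingHom.ext fun b => ?_))
        have := DFunLike.congr_fun (congrArg (fun f => f.right.hom) (hm (jb b)))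
          (Ideal.Quotient.mk (jb b).I (MvPolynomial.X ⟨b, hjb b⟩))
        show m.right.hom b = f s b
        refine Eq.trans ?_ this
        show m.right.hom b = m.right.hom (leg A B h (jb b) (Ideal.Quotient.mk _ (MvPolynomial.X ⟨b, hjb b⟩)))
        rw [leg_mk, ev_X] }

theorem exists_colimit (hnil : RingHom.ker (algebraMap A B) ≤ nilradical A)
    (hc : ∀ E : Finset B, ∃ l, IsTower A h l ∧ (E : Set B) ⊆ ((adj A l : Subalgebra A B) : Set B)) :
    ∃ (J : Type u) (_ : SmallCategory J) (_ : IsFiltered J) (F : J ⥤ Under (CommRingCat.of A))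
      (c : Limits.Cocone F) (_ : Limits.IsColimit c),
      (∀ j, (F.obj j).hom.hom.FinitePresentation ∧ FlatMor.IsUnivHomeo (Spec.map (F.obj j).hom) ∧
        (¬ h → ∀ x : Spec (F.obj j).right, Function.Surjective ((Spec.map (F.obj j).hom).residueFieldMap x))) ∧
      Nonempty (c.pt ≅ Under.mk (CommRingCat.ofHom (algebraMap A B))) := by
  haveI : Nonempty (Idx A B h) := by
    obtain ⟨j, -, -⟩ := exists_idx (h := h) hc ∅ ∅ (by simp)
    exact ⟨j⟩
  haveI : IsDirectedOrder (Idx A B h) := ⟨fun j k => idx_directed hc j k⟩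
  refine ⟨Idx A B h, inferInstance, inferInstance, diagram A B h, cocone A B h,
    (nonempty_isColimit_cocone hc).some, fun j => ⟨?_, ?_, fun hh => ?_⟩, ⟨Iso.refl _⟩⟩
  · show RingHom.FinitePresentation (algebraMap A (Poly A j.S ⧸ j.I))
    haveI : Algebra.FinitePresentation A (Poly A j.S ⧸ j.I) := Algebra.FinitePresentation.quotient j.fg
    exact RingHom.finitePresentation_algebraMap.mpr inferInstance
  · refine univHomeo_of_covered (fun a ha => hnil ?_) j.good
    have := (leg A B h j).commutes a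
    rw [show algebraMap A (Poly A j.S ⧸ j.I) a = 0 from ha, map_zero] at this
    exact this.symm
  · have : h = False := eq_false hh
    subst this
    exact residue_of_covered j.good

end Groth.Agent.UHTower
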