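import Groth.Agent.AWN.Criterion
import Groth.Agent.Eta.UnivHomeo

/-!
# Universal homeomorphisms and towers `b², b³ ∈ A[prev]` / `p b, b^p ∈ A[prev]`

`Step h C b`: `b², b³ ∈ C`, or (if `h`) `p b, b^p ∈ C` for a prime `p`.
`eq_top_of_closed`: in a universally homeomorphic extension, a subalgebra closed under the steps
is everything (`h = False` with trivial residue fields, `h = True` in general).
-/

set_option autoImplicit false

universe u

open CategoryTheory AlgebraicGeometry
open Groth.Agent.AWN (HomInj)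

namespace Groth.Agent.UHTower

variable {A B : Type u} [CommRing A] [CommRing B] [Algebra A B]

/-- One elementary step over `C`. -/
def Step (h : Prop) (C : Subalgebra A B) (b : B) : Prop :=
  (b ^ 2 ∈ C ∧ b ^ 3 ∈ C) ∨ (h ∧ ∃ p : ℕ, p.Prime ∧ (p : B) * b ∈ C ∧ b ^ p ∈ C)

theorem Step.mono {h : Prop} {C C' : Subalgebra A B} (hle : C ≤ C') {b : B} (hb : Step h C b) :
    Step h C' b := by
  rcases hb with ⟨h2, h3⟩ | ⟨hh, p, hp, h1, h2⟩
  · exact .inl ⟨hle h2, hle h3⟩
  · exact .inr ⟨hh, p, hp, hle h1, hle h2⟩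

/-- `C` contains every elementary step over itself. -/
def Closed (h : Prop) (C : Subalgebra A B) : Prop := ∀ b, Step h C b → b ∈ C

/-- Residue fields of `B` over `A`: trivial, up to `p`-power roots if `h`. -/
def Res (h : Prop) (A B : Type u) [CommRing A] [CommRing B] [Algebra A B] : Prop :=
  ∀ (q : Ideal B), q.IsPrime → ∀ x : B, ∃ (c e : A) (n : ℕ), algebraMap A B e ∉ q ∧
    algebraMap A B e * x ^ n - algebraMap A B c ∈ q ∧
    (n = 1 ∨ (h ∧ ∃ l k : ℕ, l.Prime ∧ (l : B) ∈ q ∧ n = l ^ k))

theorem pow_closed {h : Prop} {C : Subalgebra A B} (hC : Closed h C) :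
    ∀ (k : ℕ) (z : B), (∀ n, k ≤ n → 0 < n → z ^ n ∈ C) → z ∈ C := by
  intro k
  induction k with
  | zero => intro z hz; simpa using hz 1 (by omega) (by omega)
  | succ k ih =>
    intro z hz
    refine ih z fun n hn hn0 => ?_
    rcases eq_or_lt_of_le hn with rfl | hlt
    · refine hC _ (.inl ⟨?_, ?_⟩) <;> rw [← pow_mul] <;> exact hz _ (by omega) (by omega)
    · exact hz n hlt hn0

theorem comap_injective (hinj : HomInj (algebraMap A B)) :
    Function.Injective (PrimeSpectrum.comap (algebraMap A B)) :=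
  haveI := (AWN.universallyInjective_spec_iff (algebraMap A B)).mpr hinj
  (Spec.map (CommRingCat.ofHom (algebraMap A B))).injective

theorem eq_top_of_closed {h : Prop} [Algebra.IsIntegral A B] (hinj : HomInj (algebraMap A B))
    (hres : Res h A B) (C : Subalgebra A B) (hC : Closed h C) : C = ⊤ := by
  classical
  haveI : Algebra.IsIntegral C B := Algebra.IsIntegral.tower_top A
  refine eq_top_iff.mpr fun x _ => ?_
  let D : Subalgebra C B := Algebra.adjoin C {x}
  let J : Ideal C :=
    { carrier := {c | ∀ d ∈ D, (c : B) * d ∈ C}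
      add_mem' := fun {a b} ha hb d hd => by
        simpa [add_mul] using add_mem (ha d hd) (hb d hd)
      zero_mem' := fun d _ => by simp
      smul_mem' := fun r a ha d hd => by
        simpa [mul_assoc] using mul_mem r.2 (ha d hd) }
  suffices hJ : J = ⊤ by
    have : (1 : C) ∈ J := hJ ▸ Submodule.mem_top
    simpa using this x (Algebra.self_mem_adjoin_singleton C x)
  by_contra hne
  obtain ⟨p, hp⟩ := Ideal.nonempty_minimalPrimes hne
  haveI hpp : p.IsPrime := hp.isPrime
  obtain ⟨q, -, hq, hqp⟩ := Ideal.exists_ideal_over_prime_of_isIntegral p (⊥ : Ideal B) (by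
    intro c hc
    rw [Ideal.mem_comap, Ideal.mem_bot] at hc
    have : c = 0 := Subtype.ext hc
    exact this ▸ p.zero_mem)
  have hqmem : ∀ c : C, (c : B) ∈ q ↔ c ∈ p := fun c => by rw [← hqp]; rfl
  let Den : B → Prop := fun z => ∃ s : C, s ∉ p ∧ (s : B) * z ∈ C
  have hP : ∀ y ∈ D, y ∈ q → Den y := by
    intro y hyD hyq
    let JD : Ideal D :=
      { carrier := {c | ∀ d ∈ D, (c : B) * d ∈ C}
        add_mem' := fun {a b} ha hb d hd => by
          simpa [add_mul] using add_mem (ha d hd) (hb d hd)
        zero_mem' := fun d _ => by simp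
        smul_mem' := fun r a ha d hd => by
          have := ha _ (mul_mem r.2 hd)
          simpa [mul_assoc, mul_left_comm] using this }
    let M : Submonoid D :=
      { carrier := {z | ∃ (s : C) (n : ℕ), s ∉ p ∧ (z : B) = (s : B) * y ^ n}
        one_mem' := ⟨1, 0, fun h1 => hpp.ne_top ((Ideal.eq_top_iff_one p).mpr h1), by simp⟩
        mul_mem' := fun {a b} ha hb => by
          obtain ⟨s, n, hs, ha⟩ := ha
          obtain ⟨t, m, ht, hb⟩ := hb
          refine ⟨s * t, n + m, fun hst => (hpp.mem_or_mem hst).elim hs ht, ?_⟩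
          simp only [Subalgebra.coe_mul, ha, hb, pow_add]; ring }
    by_cases hdis : Disjoint (JD : Set D) (M : Set D)
    · exfalso
      obtain ⟨Q, hQ, hJQ, hQM⟩ := Ideal.exists_le_prime_disjoint JD M hdis
      rw [Set.disjoint_left] at hQM
      have hle : Q.comap (algebraMap C D) ≤ p := fun c hc => by
        by_contra hcp
        exact hQM hc ⟨c, 0, hcp, by rw [pow_zero, mul_one]; rfl⟩
      have hQp : Q.comap (algebraMap C D) = p :=
        le_antisymm hle (hp.2 ⟨Ideal.IsPrime.comap _, fun c hc => hJQ hc⟩ hle)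
      haveI : Algebra.IsIntegral D B := Algebra.IsIntegral.tower_top C
      obtain ⟨Q', -, hQ', hQQ'⟩ := Ideal.exists_ideal_over_prime_of_isIntegral Q (⊥ : Ideal B) (by
        intro c hc
        rw [Ideal.mem_comap, Ideal.mem_bot] at hc
        have : c = 0 := Subtype.ext hc
        exact this ▸ Q.zero_mem)
      have hQ'C : ∀ c : C, (c : B) ∈ Q' ↔ c ∈ p := fun c => by rw [← hQp, ← hQQ']; rfl
      have heq : (⟨Q', hQ'⟩ : PrimeSpectrum B) = ⟨q, hq⟩ := comap_injective hinj
        (PrimeSpectrum.ext (Ideal.ext fun a =>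
          (hQ'C (algebraMap A C a)).trans (hqmem (algebraMap A C a)).symm))
      have hqQ : q = Q' := (congrArg PrimeSpectrum.asIdeal heq).symm
      have hyQ : (⟨y, hyD⟩ : D) ∈ Q := by rw [← hQQ']; exact hqQ ▸ hyq
      exact hQM hyQ ⟨1, 1, fun h1 => hpp.ne_top ((Ideal.eq_top_iff_one p).mpr h1), by simp⟩
    · rw [Set.not_disjoint_iff] at hdis
      obtain ⟨z, hz, s, n, hs, hzy⟩ := hdis
      refine ⟨s, hs, pow_closed hC n _ fun m hm hm0 => ?_⟩
      obtain ⟨m', rfl⟩ : ∃ m', m = m' + 1 := ⟨m - 1, by omega⟩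
      have hmem : (s : B) ^ m' * y ^ (m' + 1 - n) ∈ D :=
        mul_mem (pow_mem (D.algebraMap_mem s) _) (pow_mem hyD _)
      have := hz _ hmem
      rw [hzy] at this
      convert this using 1
      have h' : y ^ (m' + 1) = y ^ n * y ^ (m' + 1 - n) := by rw [← pow_add]; congr 1; omega
      rw [mul_pow, h']; ring
  have hroot : ∀ (l : ℕ), h → l.Prime → (l : B) ∈ q → ∀ (k : ℕ), ∀ d ∈ D, Den (d ^ l ^ k) → Den d := by
    intro l hh hl hlq k
    induction k with
    | zero => intro d _ hd; simpa using hd
    | succ k ih =>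
      intro d hd hden
      refine ih d hd ?_
      have hzD : d ^ l ^ k ∈ D := pow_mem hd _
      rw [pow_succ, pow_mul] at hden
      obtain ⟨s₂, hs₂, h₂⟩ := hden
      obtain ⟨s₁, hs₁, h₁⟩ := hP ((l : B) * d ^ l ^ k) (mul_mem (natCast_mem D l) hzD)
        (q.mul_mem_right _ hlq)
      refine ⟨s₁ * s₂, fun hst => (hpp.mem_or_mem hst).elim hs₁ hs₂, hC _ (.inr ⟨hh, l, hl, ?_, ?_⟩)⟩
      · convert mul_mem s₂.2 h₁ using 1
        rw [Subalgebra.coe_mul]; ring
      · obtain ⟨l', rfl⟩ : ∃ l', l = l' + 1 := ⟨l - 1, by have := hl.pos; omega⟩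
        convert mul_mem (mul_mem (pow_mem s₁.2 (l' + 1)) (pow_mem s₂.2 l')) h₂ using 1
        rw [Subalgebra.coe_mul]; ring
  have hall : ∀ d ∈ D, Den d := by
    intro d hd
    obtain ⟨c, e, n, he, hmem, hn⟩ := hres q hq d
    have hdn : Den (d ^ n) := by
      obtain ⟨s, hs, hsy⟩ := hP _ (sub_mem
        (mul_mem (D.algebraMap_mem (algebraMap A C e)) (pow_mem hd n))
        (D.algebraMap_mem (algebraMap A C c))) hmem
      refine ⟨s * algebraMap A C e,
        fun hst => (hpp.mem_or_mem hst).elim hs fun h' => he ((hqmem _).mpr h'), ?_⟩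
      convert add_mem hsy (mul_mem s.2 (C.algebraMap_mem c)) using 1
      show (s : B) * algebraMap A B e * d ^ n = _
      change _ = (s : B) * (algebraMap A B e * d ^ n - algebraMap A B c) + (s : B) * algebraMap A B c
      ring
    rcases hn with rfl | ⟨hh, l, k, hl, hlq, rfl⟩
    · simpa using hdn
    · exact hroot l hh hl hlq k d hd hdn
  obtain ⟨G, hG⟩ := (Algebra.IsIntegral.isIntegral (R := C) x).fg_adjoin_singleton
  have hGD : ∀ g ∈ G, g ∈ D := fun g hg => by
    show g ∈ Subalgebra.toSubmodule D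
    rw [← hG]; exact Submodule.subset_span hg
  choose s hs hsmem using fun g : G => hall g.1 (hGD g.1 g.2)
  let t : C := ∏ g : G, s g
  have ht : t ∉ p := fun htp => by
    obtain ⟨g, -, hg⟩ := hpp.prod_mem_iff.mp htp
    exact hs g hg
  refine ht (hp.1.2 fun d hd => ?_)
  have hd' : d ∈ Submodule.span C (G : Set B) := by rw [hG]; exact hd
  induction hd' using Submodule.span_induction with
  | mem g hg =>
    have ht' : t = (∏ g' ∈ (Finset.univ : Finset G).erase ⟨g, hg⟩, s g') * s ⟨g, hg⟩ :=
      (Finset.prod_erase_mul _ _ (Finset.mem_univ _)).symm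
    rw [ht', Subalgebra.coe_mul, mul_assoc]
    exact mul_mem (SetLike.coe_mem _) (hsmem ⟨g, hg⟩)
  | zero => simp
  | add a b ha hb iha ihb =>
    rw [mul_add]
    exact add_mem (iha (by rw [hG] at ha; exact ha)) (ihb (by rw [hG] at hb; exact hb))
  | smul r a ha iha =>
    show (t : B) * ((r : B) * a) ∈ C
    rw [mul_left_comm]
    exact mul_mem r.2 (iha (by rw [hG] at ha; exact ha))

/-- Residue extensions of a universally injective map are purely inseparable. -/
theorem res_of_homInj [Algebra.IsIntegral A B] (hinj : HomInj (algebraMap A B)) : Res True A B := by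
  intro q hq x
  let p : Ideal A := q.comap (algebraMap A B)
  haveI : p.IsPrime := Ideal.IsPrime.comap _
  let K := p.ResidueField
  let L := q.ResidueField
  letI : Algebra K L := (Ideal.ResidueField.map p q (algebraMap A B) rfl).toAlgebra
  haveI : IsPurelyInseparable K L := by
    rw [isPurelyInseparable_iff_subsingleton_emb]
    refine ⟨fun g g' => AlgHom.coe_ringHom_injective (Ideal.ResidueField.ringHom_ext ?_)⟩
    refine hinj _ _ _ (RingHom.ext fun a => ?_)
    have := Ideal.ResidueField.map_algebraMap p q (algebraMap A B) rfl a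
    show g (algebraMap B L (algebraMap A B a)) = g' (algebraMap B L (algebraMap A B a))
    rw [← this]
    exact (g.commutes _).trans (g'.commutes _).symm
  obtain ⟨ee, hee⟩ := ExpChar.exists K
  obtain ⟨k, y, hy⟩ := IsPurelyInseparable.pow_mem K ee (algebraMap B L x)
  obtain ⟨cb, eb, heb, rfl⟩ := IsFractionRing.div_surjective (A ⧸ p) y
  obtain ⟨c, rfl⟩ := Ideal.Quotient.mk_surjective cb
  obtain ⟨e, rfl⟩ := Ideal.Quotient.mk_surjective eb
  have heK : algebraMap A K e ≠ 0 := by
    rw [IsScalarTower.algebraMap_apply A (A ⧸ p) K]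
    exact IsFractionRing.to_map_ne_zero_of_mem_nonZeroDivisors heb
  have heq : algebraMap A B e ∉ q := fun h' => heK (Ideal.algebraMap_residueField_eq_zero.mpr h')
  refine ⟨c, e, ee ^ k, heq, ?_, ?_⟩
  · rw [← Ideal.algebraMap_residueField_eq_zero (I := q)]
    have hm : ∀ a, algebraMap B L (algebraMap A B a) = algebraMap K L (algebraMap A K a) := fun a =>
      (Ideal.ResidueField.map_algebraMap p q (algebraMap A B) rfl a).symm
    change algebraMap B L (algebraMap A B e * x ^ ee ^ k - algebraMap A B c) = 0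
    rw [map_sub, map_mul, map_pow, ← hy, hm, hm, ← map_mul, sub_eq_zero]
    refine congrArg _ ?_
    exact mul_div_cancel₀ _ heK
  · rcases hee with _ | hprime
    · exact .inl (one_pow k)
    · rename_i hchar
      refine .inr ⟨trivial, ee, k, hprime, ?_, rfl⟩
      rw [← Ideal.algebraMap_residueField_eq_zero (I := q), map_natCast]
      haveI : CharP L ee := charP_of_injective_algebraMap (algebraMap K L).injective ee
      exact CharP.cast_eq_zero L ee

/-- Trivial residue extensions, in terms of elements. -/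
theorem surjective_residueFieldMap_iff :
    (∀ x : Spec (CommRingCat.of B),
      Function.Surjective ((Spec.map (CommRingCat.ofHom (algebraMap A B))).residueFieldMap x)) ↔
    ∀ (q : Ideal B), q.IsPrime → ∀ x : B, ∃ (c e : A), algebraMap A B e ∉ q ∧
      algebraMap A B e * x - algebraMap A B c ∈ q := by
  let f := algebraMap A B
  have hinj' : ∀ x : ↥(Spec (CommRingCat.of B)),
      Function.Injective ((Spec.map (CommRingCat.ofHom f)).residueFieldMap x) := fun x =>
    RingHom.injective _
  have key : ∀ q : PrimeSpectrum B,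
      Function.Surjective ((Spec.map (CommRingCat.ofHom f)).residueFieldMap q) ↔
      Function.Surjective (Ideal.ResidueField.map (PrimeSpectrum.comap f q).asIdeal q.asIdeal f rfl) := by
    intro q
    constructor
    · intro hs
      exact ((Eta.residueFieldMap_bijective_iff f q).mp
        ((ConcreteCategory.isIso_iff_bijective _).mpr ⟨hinj' q, hs⟩)).2
    · intro hs
      have := (Eta.residueFieldMap_bijective_iff f q).mpr ⟨RingHom.injective _, hs⟩
      exact ((ConcreteCategory.isIso_iff_bijective _).mp this).2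
  constructor
  · intro hs q hq x
    let p : Ideal A := (PrimeSpectrum.comap f ⟨q, hq⟩).asIdeal
    obtain ⟨y, hy⟩ := (key ⟨q, hq⟩).mp (hs ⟨q, hq⟩) (algebraMap B q.ResidueField x)
    obtain ⟨cb, eb, heb, rfl⟩ := IsFractionRing.div_surjective (A ⧸ p) y
    obtain ⟨c, rfl⟩ := Ideal.Quotient.mk_surjective cb
    obtain ⟨e, rfl⟩ := Ideal.Quotient.mk_surjective eb
    have heK : algebraMap A p.ResidueField e ≠ 0 := by
      rw [IsScalarTower.algebraMap_apply A (A ⧸ p) p.ResidueField]
      exact IsFractionRing.to_map_ne_zero_of_mem_nonZeroDivisors heb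
    have heq : f e ∉ q := fun h' => heK (Ideal.algebraMap_residueField_eq_zero.mpr h')
    refine ⟨c, e, heq, ?_⟩
    rw [← Ideal.algebraMap_residueField_eq_zero (I := q)]
    rw [show (algebraMap (A ⧸ p) p.ResidueField) (Ideal.Quotient.mk p c) = algebraMap A p.ResidueField c from rfl,
      show (algebraMap (A ⧸ p) p.ResidueField) (Ideal.Quotient.mk p e) = algebraMap A p.ResidueField e from rfl,
      map_div₀] at hy
    have hm : ∀ a, Ideal.ResidueField.map (PrimeSpectrum.comap f ⟨q, hq⟩).asIdeal q f rfl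
        (algebraMap A _ a) = algebraMap B q.ResidueField (f a) := fun a =>
      Ideal.ResidueField.map_algebraMap _ q f rfl a
    have hy' : algebraMap B q.ResidueField (f c) / algebraMap B q.ResidueField (f e) =
        algebraMap B q.ResidueField x := by rw [← hm, ← hm]; exact hy
    have hne : algebraMap B q.ResidueField (f e) ≠ 0 :=
      fun h' => heq (Ideal.algebraMap_residueField_eq_zero.mp h')
    change algebraMap B q.ResidueField (f e * x - f c) = 0
    rw [map_sub, map_mul, ← hy']
    field_simp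
    ring
  · intro hs (q : PrimeSpectrum B)
    refine (key q).mpr fun z => ?_
    let φ := Ideal.ResidueField.map (PrimeSpectrum.comap f q).asIdeal q.asIdeal f rfl
    have hr : ∀ x : B, algebraMap B q.asIdeal.ResidueField x ∈ φ.range := by
      intro x
      obtain ⟨c, e, he, hmem⟩ := hs q.asIdeal q.isPrime x
      refine ⟨algebraMap A _ c / algebraMap A _ e, ?_⟩
      have hne : algebraMap B q.asIdeal.ResidueField (f e) ≠ 0 :=
        fun h' => he (Ideal.algebraMap_residueField_eq_zero.mp h')
      have hm : ∀ a, φ (algebraMap A _ a) = algebraMap B q.asIdeal.ResidueField (f a) := fun a =>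
        Ideal.ResidueField.map_algebraMap _ q.asIdeal f rfl a
      rw [map_div₀, hm, hm, div_eq_iff hne]
      have h0 := (Ideal.algebraMap_residueField_eq_zero (I := q.asIdeal)).mpr hmem
      rw [map_sub, map_mul, sub_eq_zero] at h0
      rw [← h0, mul_comm]
    obtain ⟨cb, eb, -, rfl⟩ := IsFractionRing.div_surjective (B ⧸ q.asIdeal) z
    obtain ⟨a, rfl⟩ := Ideal.Quotient.mk_surjective cb
    obtain ⟨b, rfl⟩ := Ideal.Quotient.mk_surjective eb
    obtain ⟨u, hu⟩ := hr a
    obtain ⟨v, hv⟩ := hr b
    exact ⟨u / v, by rw [map_div₀]; exact congrArg₂ (· / ·) hu hv⟩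

theorem res_of_surjective {h : Prop}
    (hs : ∀ x : Spec (CommRingCat.of B),
      Function.Surjective ((Spec.map (CommRingCat.ofHom (algebraMap A B))).residueFieldMap x)) :
    Res h A B := fun q hq x => by
  obtain ⟨c, e, he, hm⟩ := surjective_residueFieldMap_iff.mp hs q hq x
  exact ⟨c, e, 1, he, by simpa using hm, .inl rfl⟩

end Groth.Agent.UHTower
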